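import Cfsg.Agent.U35.Data
import Cfsg.Agent.Coset.Table
import Cfsg.Agent.Unitary.ConjugacyGL
import Cfsg.Agent.Unitary.Simple

/-!
A subgroup of order `7560` of `SU(3, 5)`.
-/

set_option autoImplicit false
set_option maxRecDepth 100000
set_option Elab.async false
set_option linter.style.haveILetI false

namespace CfsgLib.U35

open CfsgLib.Coset CfsgLib.Unitary Matrix

/-- Table addition. -/
noncomputable def fadd (x y : Nat) : Nat :=
  Nat.land (Nat.shiftRight addT (Nat.mul 5 (Nat.add (Nat.mul 25 x) y))) 31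

/-- Table multiplication. -/
noncomputable def fmul (x y : Nat) : Nat :=
  Nat.land (Nat.shiftRight mulT (Nat.mul 5 (Nat.add (Nat.mul 25 x) y))) 31

/-- Table conjugation. -/
noncomputable def fcj (x : Nat) : Nat := Nat.land (Nat.shiftRight cjT (Nat.mul 5 x)) 31

/-- An entry of a coded matrix. -/
noncomputable def ent (c i : Nat) : Nat := Nat.land (Nat.shiftRight c (Nat.mul 5 i)) 31

/-- One entry of a product. -/
noncomputable def dot (c d i j : Nat) : Nat :=
  fadd (fadd (fmul (ent c (Nat.mul 3 i)) (ent d j))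
    (fmul (ent c (Nat.add (Nat.mul 3 i) 1)) (ent d (Nat.add 3 j))))
    (fmul (ent c (Nat.add (Nat.mul 3 i) 2)) (ent d (Nat.add 6 j)))

/-- The product of two coded matrices is the third. -/
noncomputable def prodIs (c d e : Nat) : Bool :=
  allBelow 2 3 fun i => allBelow 2 3 fun j => Nat.beq (dot c d i j) (ent e (Nat.add (Nat.mul 3 i) j))

/-- The conjugate transpose times the matrix is the identity. -/
noncomputable def isUnitary (c : Nat) : Bool :=
  allBelow 2 3 fun i => allBelow 2 3 fun j => Nat.beq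
    (fadd (fadd (fmul (fcj (ent c i)) (ent c j))
      (fmul (fcj (ent c (Nat.add 3 i))) (ent c (Nat.add 3 j))))
      (fmul (fcj (ent c (Nat.add 6 i))) (ent c (Nat.add 6 j))))
    (cond (Nat.beq i j) 1 0)

theorem fadd_spec : allBelow 5 25 (fun x => allBelow 5 25 fun y =>
    cond (Nat.ble (Nat.add (fadd x y) 1) 25)
      (cond (Nat.beq (Nat.mod (fadd x y) 5) (Nat.mod (Nat.add (Nat.mod x 5) (Nat.mod y 5)) 5))
        (Nat.beq (Nat.div (fadd x y) 5) (Nat.mod (Nat.add (Nat.div x 5) (Nat.div y 5)) 5)) false)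
      false) = true := by decide +kernel

theorem fmul_spec : allBelow 5 25 (fun x => allBelow 5 25 fun y =>
    cond (Nat.ble (Nat.add (fmul x y) 1) 25)
      (cond (Nat.beq (Nat.mod (fmul x y) 5) (Nat.mod (Nat.add (Nat.mul (Nat.mod x 5) (Nat.mod y 5))
          (Nat.mul 2 (Nat.mul (Nat.div x 5) (Nat.div y 5)))) 5))
        (Nat.beq (Nat.div (fmul x y) 5) (Nat.mod (Nat.add (Nat.mul (Nat.mod x 5) (Nat.div y 5))
          (Nat.mul (Nat.div x 5) (Nat.mod y 5))) 5)) false)
      false) = true := by decide +kernel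

theorem fcj_spec : allBelow 5 25 (fun x => cond (Nat.ble (Nat.add (fcj x) 1) 25)
      (cond (Nat.beq (Nat.mod (fcj x) 5) (Nat.mod x 5))
        (Nat.beq (Nat.mod (Nat.add (Nat.div (fcj x) 5) (Nat.div x 5)) 5) 0) false) false) = true := by
  decide +kernel

variable {F : Type*} [Field F]

/-- The value of a code. -/
def φ (r : F) (x : Nat) : F := (x % 5 : ℕ) + (x / 5 : ℕ) * r

/-- The matrix of a code. -/
noncomputable def mat (r : F) (c : Nat) : Matrix (Fin 3) (Fin 3) F :=
  Matrix.of fun i j => φ r (ent c (3 * i.val + j.val))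

variable [CharP F 5] {r : F} (hr : r ^ 2 = 2)

theorem cast_mod_five (a : ℕ) : ((a % 5 : ℕ) : F) = (a : F) :=
  ((CharP.natCast_eq_natCast F 5).mpr (Nat.mod_modEq a 5))

theorem φ_add {x y : Nat} (hx : x < 25) (hy : y < 25) :
    fadd x y < 25 ∧ φ r (fadd x y) = φ r x + φ r y := by
  have h := of_allBelow (of_allBelow fadd_spec x hx) y hy
  simp only [cond_false_eq_true] at h
  obtain ⟨h0, h1, h2⟩ := h
  refine ⟨Nat.ble_eq.mp h0, ?_⟩
  have e1 : fadd x y % 5 = (x % 5 + y % 5) % 5 := Nat.eq_of_beq_eq_true h1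
  have e2 : fadd x y / 5 = (x / 5 + y / 5) % 5 := Nat.eq_of_beq_eq_true h2
  rw [φ, φ, φ, e1, e2, cast_mod_five, cast_mod_five]
  push_cast
  ring

include hr in
theorem φ_mul {x y : Nat} (hx : x < 25) (hy : y < 25) :
    fmul x y < 25 ∧ φ r (fmul x y) = φ r x * φ r y := by
  have h := of_allBelow (of_allBelow fmul_spec x hx) y hy
  simp only [cond_false_eq_true] at h
  obtain ⟨h0, h1, h2⟩ := h
  refine ⟨Nat.ble_eq.mp h0, ?_⟩
  have e1 : fmul x y % 5 = (x % 5 * (y % 5) + 2 * (x / 5 * (y / 5))) % 5 := Nat.eq_of_beq_eq_true h1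
  have e2 : fmul x y / 5 = (x % 5 * (y / 5) + x / 5 * (y % 5)) % 5 := Nat.eq_of_beq_eq_true h2
  rw [φ, φ, φ, e1, e2, cast_mod_five, cast_mod_five]
  push_cast
  linear_combination (-(((x / 5 : ℕ) : F) * ((y / 5 : ℕ) : F))) * hr

include hr in
theorem φ_conj {x : Nat} (hx : x < 25) : fcj x < 25 ∧ φ r (fcj x) = φ r x ^ 5 := by
  haveI : Fact (Nat.Prime 5) := ⟨by norm_num⟩
  have h := of_allBelow fcj_spec x hx
  simp only [cond_false_eq_true] at h
  obtain ⟨h0, h1, h2⟩ := h
  refine ⟨Nat.ble_eq.mp h0, ?_⟩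
  have e1 : fcj x % 5 = x % 5 := Nat.eq_of_beq_eq_true h1
  have e2 : (fcj x / 5 + x / 5) % 5 = 0 := Nat.eq_of_beq_eq_true h2
  have e3 : ((fcj x / 5 : ℕ) : F) = -((x / 5 : ℕ) : F) := by
    have := cast_mod_five (F := F) (fcj x / 5 + x / 5)
    rw [e2, Nat.cast_zero, Nat.cast_add] at this
    linear_combination -this
  have hn : ∀ a : ℕ, (a : F) ^ 5 = a := fun a => by
    have h := map_natCast (frobenius F 5) a
    rwa [frobenius_def] at h
  have hr5 : r ^ 5 = -r := by
    have h5 : (5 : F) = 0 := by exact_mod_cast CharP.cast_eq_zero F 5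
    linear_combination (r ^ 3 + 2 * r) * hr + r * h5
  rw [φ, φ, e1, e3, add_pow_char (R := F) (p := 5), mul_pow, hn, hn, hr5]
  ring

theorem no_rational_root (hr : r ^ 2 = 2) (a : ℕ) : (a : F) ≠ r := by
  intro h
  rw [← h, ← Nat.cast_pow] at hr
  have : (a ^ 2 : ℕ) ≡ 2 [MOD 5] := (CharP.natCast_eq_natCast F 5).mp (by simpa using hr)
  rw [Nat.ModEq, Nat.pow_mod] at this
  have h5 : a % 5 < 5 := Nat.mod_lt _ (by norm_num)
  interval_cases a % 5 <;> norm_num at this

include hr in
theorem φ_inj {x y : Nat} (hx : x < 25) (hy : y < 25) (h : φ r x = φ r y) : x = y := by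
  haveI : Fact (Nat.Prime 5) := ⟨by norm_num⟩
  rw [φ, φ] at h
  by_cases hq : x / 5 = y / 5
  · rw [hq, add_left_inj] at h
    have := (CharP.natCast_eq_natCast F 5).mp h
    rw [Nat.ModEq, Nat.mod_mod, Nat.mod_mod] at this
    omega
  · exfalso
    set s : F := ((y / 5 : ℕ) : F) - ((x / 5 : ℕ) : F) with hs
    have hs0 : s ≠ 0 := fun h0 => hq (by
      have := (CharP.natCast_eq_natCast F 5).mp (sub_eq_zero.mp h0)
      rw [Nat.ModEq, Nat.mod_eq_of_lt (by omega : y / 5 < 5), Nat.mod_eq_of_lt (by omega : x / 5 < 5)]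
        at this
      exact this.symm)
    let f := ZMod.castHom (dvd_refl 5) F
    let b : ZMod 5 := ((x % 5 : ℕ) : ZMod 5) - ((y % 5 : ℕ) : ZMod 5)
    let d : ZMod 5 := ((y / 5 : ℕ) : ZMod 5) - ((x / 5 : ℕ) : ZMod 5)
    have hrs : s * r = f b := by
      simp only [b, map_sub, map_natCast, hs]
      linear_combination -h
    have hd : f d = s := by simp only [d, map_sub, map_natCast, hs]
    have hr' : r = f (b / d) := by
      rw [map_div₀, ← hrs, hd, mul_div_cancel_left₀ _ hs0]
    exact no_rational_root hr (b / d).val (by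
      rw [hr']
      rw [← map_natCast f, ZMod.natCast_val, ZMod.cast_id])

/-- Nine entries, all in range. -/
noncomputable def coded (c : Nat) : Bool :=
  cond (Nat.ble (Nat.add c 1) (Nat.pow 2 45))
    (allBelow 4 9 fun i => Nat.ble (Nat.add (ent c i) 1) 25) false

theorem coded_lt {c : Nat} (h : coded c = true) {i : Nat} (hi : i < 9) : ent c i < 25 :=
  Nat.ble_eq.mp (of_allBelow (cond_false_eq_true.mp h).2 i hi)

theorem eq_of_ent {c d : Nat} (hc : coded c = true) (hd : coded d = true)
    (h : ∀ i < 9, ent c i = ent d i) : c = d := by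
  have hc' : c < 2 ^ 45 := Nat.ble_eq.mp (cond_false_eq_true.mp hc).1
  have hd' : d < 2 ^ 45 := Nat.ble_eq.mp (cond_false_eq_true.mp hd).1
  refine Nat.eq_of_testBit_eq fun k => ?_
  by_cases hk : k < 45
  · have := congrArg (fun v => v.testBit (k % 5)) (h (k / 5) (by omega))
    have e31 : (31 : ℕ).testBit (k % 5) = true := by
      rw [show (31 : ℕ) = 2 ^ 5 - 1 by norm_num, Nat.testBit_two_pow_sub_one]
      simpa using Nat.mod_lt _ (by norm_num)
    have e : ∀ v, (ent v (k / 5)).testBit (k % 5) = v.testBit k := by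
      intro v
      show (Nat.land (v >>> (5 * (k / 5))) 31).testBit (k % 5) = _
      rw [show Nat.land (v >>> (5 * (k / 5))) 31 = (v >>> (5 * (k / 5))) &&& 31 from rfl,
        Nat.testBit_and, e31, Bool.and_true, Nat.testBit_shiftRight, Nat.div_add_mod]
    simpa [e] using this
  · rw [Nat.testBit_lt_two_pow (hc'.trans_le (Nat.pow_le_pow_right (by norm_num) (by omega))),
      Nat.testBit_lt_two_pow (hd'.trans_le (Nat.pow_le_pow_right (by norm_num) (by omega)))]

include hr in
theorem mat_inj {c d : Nat} (hc : coded c = true) (hd : coded d = true) (h : mat r c = mat r d) :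
    c = d := by
  refine eq_of_ent hc hd fun i hi => ?_
  have := congrFun (congrFun h ⟨i / 3, by omega⟩) ⟨i % 3, by omega⟩
  simp only [mat, Matrix.of_apply, Nat.div_add_mod] at this
  exact φ_inj hr (coded_lt hc hi) (coded_lt hd hi) this

include hr in
theorem mat_mul {c d e : Nat} (hc : coded c = true) (hd : coded d = true)
    (h : prodIs c d e = true) : mat r c * mat r d = mat r e := by
  ext i j
  have hi := i.isLt
  have hj := j.isLt
  have hh : dot c d i.val j.val = ent e (3 * i.val + j.val) :=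
    Nat.eq_of_beq_eq_true (of_allBelow (of_allBelow h i hi) j hj)
  have hA := coded_lt hc (show 3 * i.val < 9 by omega)
  have hB := coded_lt hc (show 3 * i.val + 1 < 9 by omega)
  have hC := coded_lt hc (show 3 * i.val + 2 < 9 by omega)
  have hA' := coded_lt hd (show j.val < 9 by omega)
  have hB' := coded_lt hd (show 3 + j.val < 9 by omega)
  have hC' := coded_lt hd (show 6 + j.val < 9 by omega)
  obtain ⟨l1, e1⟩ := φ_mul hr hA hA'
  obtain ⟨l2, e2⟩ := φ_mul hr hB hB'
  obtain ⟨l3, e3⟩ := φ_mul hr hC hC'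
  obtain ⟨l4, e4⟩ := φ_add (r := r) l1 l2
  obtain ⟨-, e5⟩ := φ_add (r := r) l4 l3
  simp only [Matrix.mul_apply, Fin.sum_univ_three, mat, Matrix.of_apply, ← hh]
  show _ = φ r (fadd (fadd (fmul (ent c (3 * i.val)) (ent d j.val))
    (fmul (ent c (3 * i.val + 1)) (ent d (3 + j.val)))) (fmul (ent c (3 * i.val + 2)) (ent d (6 + j.val))))
  rw [e5, e4, e1, e2, e3]
  simp

theorem el_coded : allBelow 13 7560 (fun j => coded (el j)) = true := by decide +kernel

theorem el_next : allBelow 13 7560 (fun j =>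
    cond (Nat.ble (Nat.add (Nat.land (next j) 8191) 1) 7560)
      (cond (Nat.ble (Nat.add (Nat.shiftRight (next j) 13) 1) 7560)
        (cond (prodIs (el j) genA (el (Nat.land (next j) 8191)))
          (prodIs (el j) genB (el (Nat.shiftRight (next j) 13))) false) false) false) = true := by
  decide +kernel

theorem el_par : allBelow 13 7560 (fun j => cond (Nat.beq j 0) true
    (cond (Nat.ble (Nat.add (Nat.land (par j) 8191) 1) j)
      (cond (Nat.beq (Nat.shiftRight (par j) 13) 0)
        (prodIs (el (Nat.land (par j) 8191)) genA (el j))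
        (prodIs (el (Nat.land (par j) 8191)) genB (el j))) false)) = true := by
  decide +kernel

theorem el_distinct : allBelow 13 7560 (fun j =>
    cond (Nat.ble (Nat.add (rank j) 1) 7560)
      (cond (Nat.beq (ord (rank j)) j)
        (cond (Nat.beq j 0) true (Nat.ble (Nat.add (el (ord (Nat.sub j 1))) 1) (el (ord j))))
        false) false) = true := by
  decide +kernel

theorem el_zero : el 0 = 1 + 2 ^ 20 + 2 ^ 40 := by decide +kernel

theorem gen_ok : coded genA = true ∧ coded genB = true ∧ isUnitary genA = true ∧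
    isUnitary genB = true := by
  decide +kernel

theorem el_inj {i j : Nat} (hi : i < 7560) (hj : j < 7560) (h : el i = el j) : i = j := by
  have mono : ∀ b, b < 7560 → ∀ a, a < b → el (ord a) < el (ord b) := by
    intro b
    induction b with
    | zero => intro _ a ha; omega
    | succ b ih =>
      intro hb a ha
      have h := of_allBelow el_distinct (b + 1) hb
      simp only [cond_false_eq_true] at h
      have h3 := h.2.2
      rw [show Nat.beq (b + 1) 0 = false from rfl, cond_false] at h3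
      have hstep : el (ord b) < el (ord (b + 1)) := Nat.ble_eq.mp h3
      rcases Nat.lt_succ_iff_lt_or_eq.mp ha with h' | rfl
      · exact (ih (by omega) a h').trans hstep
      · exact hstep
  have hi' := of_allBelow el_distinct i hi
  have hj' := of_allBelow el_distinct j hj
  simp only [cond_false_eq_true] at hi' hj'
  have ei := Nat.eq_of_beq_eq_true hi'.2.1
  have ej := Nat.eq_of_beq_eq_true hj'.2.1
  rcases lt_trichotomy (rank i) (rank j) with hlt | heq | hgt
  · have := mono _ (Nat.ble_eq.mp hj'.1) _ hlt; rw [ei, ej] at this; omega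
  · rw [← ei, ← ej, heq]
  · have := mono _ (Nat.ble_eq.mp hi'.1) _ hgt; rw [ei, ej] at this; omega

include hr in
/-- A generator as an element of `SU`. -/
theorem exists_gen [Finite F] (hF : Nat.card F = 5 ^ 2) {c : Nat} (hc : coded c = true)
    (hu : isUnitary c = true) (hdet : (mat r c).det = 1) :
    ∃ g : Cfsg.SU 3 F 5, suMat g = mat r c := by
  let s : Matrix.SpecialLinearGroup (Fin 3) F := ⟨mat r c, hdet⟩
  have hGU : Matrix.SpecialLinearGroup.toGL s ∈ Cfsg.GU 3 F 5 := by
    rw [mem_GU_iff_adj hF]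
    ext i j
    have hi := i.isLt
    have hj := j.isLt
    have hh := Nat.eq_of_beq_eq_true (of_allBelow (of_allBelow hu i hi) j hj)
    obtain ⟨a1, b1⟩ := φ_conj hr (coded_lt hc (show i.val < 9 by omega))
    obtain ⟨a2, b2⟩ := φ_conj hr (coded_lt hc (show 3 + i.val < 9 by omega))
    obtain ⟨a3, b3⟩ := φ_conj hr (coded_lt hc (show 6 + i.val < 9 by omega))
    obtain ⟨l1, e1⟩ := φ_mul hr a1 (coded_lt hc (show j.val < 9 by omega))
    obtain ⟨l2, e2⟩ := φ_mul hr a2 (coded_lt hc (show 3 + j.val < 9 by omega))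
    obtain ⟨l3, e3⟩ := φ_mul hr a3 (coded_lt hc (show 6 + j.val < 9 by omega))
    obtain ⟨l4, e4⟩ := φ_add (r := r) l1 l2
    obtain ⟨-, e5⟩ := φ_add (r := r) l4 l3
    have h2 := congrArg (φ r) hh
    change φ r (fadd (fadd (fmul (fcj (ent c i.val)) (ent c j.val))
      (fmul (fcj (ent c (3 + i.val))) (ent c (3 + j.val))))
      (fmul (fcj (ent c (6 + i.val))) (ent c (6 + j.val)))) = _ at h2
    rw [e5, e4, e1, e2, e3, b1, b2, b3] at h2
    show (adj (CfsgLib.Forms.frobQ hF) (mat r c) * mat r c) i j = (1 : Matrix (Fin 3) (Fin 3) F) i j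
    simp only [adj, Matrix.mul_apply, Fin.sum_univ_three, Matrix.transpose_apply, Matrix.map_apply,
      mat, Matrix.of_apply, CfsgLib.Forms.frobQ_apply]
    refine (Eq.trans ?_ h2).trans ?_
    · simp
    · by_cases hij : i = j
      · subst hij; simp [φ, Nat.beq_refl]
      · have hb : Nat.beq i.val j.val = false := by
          cases hh : Nat.beq i.val j.val
          · rfl
          · exact absurd (Fin.ext (Nat.eq_of_beq_eq_true hh)) hij
        rw [hb, Matrix.one_apply_ne hij]
        simp [φ]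
  exact ⟨⟨s, hGU⟩, rfl⟩

omit [CharP F 5] in
/-- The code of a value table, evaluated. -/
theorem mat_one : mat r (el 0) = 1 := by
  ext i j
  rw [el_zero]
  fin_cases i <;> fin_cases j <;> simp [mat, φ, ent]

/-- Negation by the tables. -/
noncomputable def fneg (x : Nat) : Nat := fmul 4 x

/-- The determinant by the tables. -/
noncomputable def fdet (c : Nat) : Nat :=
  fadd (fadd (fadd (fmul (fmul (ent c 0) (ent c 4)) (ent c 8))
      (fmul (fmul (ent c 1) (ent c 5)) (ent c 6))) (fmul (fmul (ent c 2) (ent c 3)) (ent c 7)))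
    (fneg (fadd (fadd (fmul (fmul (ent c 2) (ent c 4)) (ent c 6))
      (fmul (fmul (ent c 0) (ent c 5)) (ent c 7))) (fmul (fmul (ent c 1) (ent c 3)) (ent c 8))))

include hr in
theorem det_eq {c : Nat} (hc : coded c = true) : (mat r c).det = φ r (fdet c) := by
  have hL : ∀ i, i < 9 → ent c i < 25 := fun i hi => coded_lt hc hi
  have t : ∀ a b d, a < 25 → b < 25 → d < 25 → fmul (fmul a b) d < 25 ∧
      φ r (fmul (fmul a b) d) = φ r a * φ r b * φ r d := by
    intro a b d ha hb hd
    obtain ⟨l, e⟩ := φ_mul hr ha hb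
    obtain ⟨l', e'⟩ := φ_mul hr l hd
    exact ⟨l', by rw [e', e]⟩
  obtain ⟨l1, e1⟩ := t _ _ _ (hL 0 (by omega)) (hL 4 (by omega)) (hL 8 (by omega))
  obtain ⟨l2, e2⟩ := t _ _ _ (hL 1 (by omega)) (hL 5 (by omega)) (hL 6 (by omega))
  obtain ⟨l3, e3⟩ := t _ _ _ (hL 2 (by omega)) (hL 3 (by omega)) (hL 7 (by omega))
  obtain ⟨l4, e4⟩ := t _ _ _ (hL 2 (by omega)) (hL 4 (by omega)) (hL 6 (by omega))
  obtain ⟨l5, e5⟩ := t _ _ _ (hL 0 (by omega)) (hL 5 (by omega)) (hL 7 (by omega))
  obtain ⟨l6, e6⟩ := t _ _ _ (hL 1 (by omega)) (hL 3 (by omega)) (hL 8 (by omega))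
  obtain ⟨la, ea⟩ := φ_add (r := r) l1 l2
  obtain ⟨lb, eb⟩ := φ_add (r := r) la l3
  obtain ⟨lc, ec⟩ := φ_add (r := r) l4 l5
  obtain ⟨ld, ed⟩ := φ_add (r := r) lc l6
  obtain ⟨le, ee⟩ := φ_mul hr (show 4 < 25 by norm_num) ld
  obtain ⟨-, ef⟩ := φ_add (r := r) lb le
  have h4 : φ r 4 = -1 := by
    have h5 : (5 : F) = 0 := by exact_mod_cast CharP.cast_eq_zero F 5
    simp only [φ, Nat.reduceMod, Nat.reduceDiv]
    push_cast
    linear_combination h5
  rw [fdet, fneg, ef, eb, ea, ee, ed, ec, e1, e2, e3, e4, e5, e6, h4, Matrix.det_fin_three]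
  simp only [mat, Matrix.of_apply]
  norm_num
  ring

theorem gen_det : fdet genA = 1 ∧ fdet genB = 1 := by decide +kernel

include hr in
/-- The subgroup of order `7560`. -/
theorem exists_subgroup [Finite F] (hF : Nat.card F = 5 ^ 2) :
    ∃ K : Subgroup (Cfsg.SU 3 F 5), Nat.card K = 7560 := by
  obtain ⟨cA, cB, uA, uB⟩ := gen_ok
  have φ1 : φ r 1 = 1 := by simp [φ]
  obtain ⟨A, hA⟩ := exists_gen hr hF cA uA (by rw [det_eq hr cA, gen_det.1, φ1])
  obtain ⟨B, hB⟩ := exists_gen hr hF cB uB (by rw [det_eq hr cB, gen_det.2, φ1])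
  refine ⟨Subgroup.closure {A, B}, ?_⟩
  have hinjSU : ∀ x y : Cfsg.SU 3 F 5, suMat x = suMat y → x = y := fun x y h =>
    Subtype.ext (Subtype.ext h)
  have hcoded : ∀ j, j < 7560 → coded (el j) = true := fun j hj => of_allBelow el_coded j hj
  have hex : ∀ j, j < 7560 → ∃ g ∈ Subgroup.closure {A, B}, suMat g = mat r (el j) := by
    intro j
    induction j using Nat.strong_induction_on with
    | _ j ih =>
      intro hj
      rcases Nat.eq_zero_or_pos j with rfl | h0
      · exact ⟨1, one_mem _, by rw [suMat_one, mat_one]⟩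
      · have h := of_allBelow el_par j hj
        rw [show Nat.beq j 0 = false by
          cases hh : Nat.beq j 0
          · rfl
          · exact absurd (Nat.eq_of_beq_eq_true hh) (by omega), cond_false, cond_false_eq_true] at h
        have hp : Nat.land (par j) 8191 < j := Nat.ble_eq.mp h.1
        obtain ⟨g, hg, hge⟩ := ih _ hp (by omega)
        cases hb : Nat.beq (Nat.shiftRight (par j) 13) 0
        · have h2 := h.2
          rw [hb, cond_false] at h2
          exact ⟨g * B, mul_mem hg (Subgroup.subset_closure (by simp)),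
            by rw [suMat_mul, hge, hB, mat_mul hr (hcoded _ (by omega)) cB h2]⟩
        · have h2 := h.2
          rw [hb, cond_true] at h2
          exact ⟨g * A, mul_mem hg (Subgroup.subset_closure (by simp)),
            by rw [suMat_mul, hge, hA, mat_mul hr (hcoded _ (by omega)) cA h2]⟩
  choose f hf hfe using hex
  let S : Set (Cfsg.SU 3 F 5) := {g | ∃ j : Fin 7560, suMat g = mat r (el j)}
  have hSfin : S.Finite := Set.toFinite _
  have hone : (1 : Cfsg.SU 3 F 5) ∈ S := ⟨0, by rw [suMat_one]; exact mat_one.symm⟩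
  have hstep : ∀ x ∈ S, ∀ y ∈ ({A, B} : Set (Cfsg.SU 3 F 5)), x * y ∈ S := by
    rintro x ⟨j, hj⟩ y hy
    have h := of_allBelow el_next j j.2
    simp only [cond_false_eq_true] at h
    obtain ⟨h1, h2, h3, h4⟩ := h
    rcases hy with rfl | hy
    · exact ⟨⟨_, Nat.ble_eq.mp h1⟩, by rw [suMat_mul, hj, hA, mat_mul hr (hcoded _ j.2) cA h3]⟩
    · rw [Set.mem_singleton_iff] at hy
      subst hy
      exact ⟨⟨_, Nat.ble_eq.mp h2⟩, by rw [suMat_mul, hj, hB, mat_mul hr (hcoded _ j.2) cB h4]⟩
  have hsub : (Subgroup.closure {A, B} : Set (Cfsg.SU 3 F 5)) ⊆ S := by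
    intro g hg
    have : ∀ x ∈ S, x * g ∈ S := by
      induction hg using Subgroup.closure_induction with
      | mem y hy => exact fun x hx => hstep x hx y hy
      | one => exact fun x hx => by rwa [mul_one]
      | mul a b _ _ ha hb => exact fun x hx => by rw [← mul_assoc]; exact hb _ (ha x hx)
      | inv a _ ha =>
        intro x hx
        have he : (· * a) '' S = S := Set.eq_of_subset_of_ncard_le (Set.image_subset_iff.mpr ha)
          (by rw [Set.ncard_image_of_injective _ (mul_left_injective a)]) hSfin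
        rw [← he] at hx
        obtain ⟨y, hy, rfl⟩ := hx
        simpa using hy
    simpa using this 1 hone
  have hbij : Function.Bijective (fun j : Fin 7560 =>
      (⟨f j j.2, hf j j.2⟩ : Subgroup.closure {A, B})) := by
    constructor
    · intro i j h
      have := congrArg (fun g : Subgroup.closure {A, B} => suMat (g : Cfsg.SU 3 F 5)) h
      simp only [hfe] at this
      exact Fin.ext (el_inj i.2 j.2 (mat_inj hr (hcoded _ i.2) (hcoded _ j.2) this))
    · rintro ⟨g, hg⟩
      obtain ⟨j, hj⟩ := hsub hg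
      exact ⟨j, Subtype.ext (hinjSU _ _ (by rw [hfe, hj]))⟩
  rw [← Nat.card_eq_of_bijective _ hbij, Nat.card_fin]

end CfsgLib.U35
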