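import Mathlib

/-!
Groups of order `126000` whose Sylow `5`-subgroups meet trivially and number `126`: every
proper subgroup has index at least `50`.
-/

set_option autoImplicit false
set_option linter.style.haveILetI false

namespace CfsgLib.U35

variable {G : Type*} [Group G] [Finite G]

/-- A Sylow subgroup of a subgroup and the number of its conjugates, for a trivial intersection
Sylow system. -/
theorem card_sylow_modEq {p : ℕ} [Fact p.Prime]
    (hTI : ∀ P Q : Sylow p G, ∀ g : G, g ≠ 1 → g ∈ (P : Subgroup G) → g ∈ (Q : Subgroup G) → P = Q)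
    (H : Subgroup G) (hd : p ∣ Nat.card H) :
    ∃ (E : Sylow p H) (φ : Sylow p H → Sylow p G), Function.Injective φ ∧
      (∀ (e : Sylow p H) (x : H), x ∈ (e : Subgroup H) → (x : G) ∈ (φ e : Subgroup G)) ∧
      (∀ e : Sylow p H, (e : Subgroup H) ≠ ⊥) ∧
      Nat.card (Sylow p H) % Nat.card (E : Subgroup H) = 1 % Nat.card (E : Subgroup H) := by
  classical
  have hup : ∀ e : Sylow p H, ∃ P : Sylow p G, (e : Subgroup H).map H.subtype ≤ P :=
    fun e => (e.isPGroup'.map _).exists_le_sylow
  choose φ hφ using hup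
  have hmem : ∀ (e : Sylow p H) (x : H), x ∈ (e : Subgroup H) → (x : G) ∈ (φ e : Subgroup G) :=
    fun e x hx => hφ e ⟨x, hx, rfl⟩
  have hne : ∀ e : Sylow p H, (e : Subgroup H) ≠ ⊥ := fun e => e.ne_bot_of_dvd_card hd
  have hback : ∀ (e : Sylow p H), ((φ e : Subgroup G).comap H.subtype) = (e : Subgroup H) := by
    intro e
    refine e.is_maximal' ?_ (fun x hx => hmem e x hx)
    exact (φ e).isPGroup'.comap_of_injective _ H.subtype_injective
  have hinj : Function.Injective φ := fun a b h => Sylow.ext (by rw [← hback a, ← hback b, h])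
  obtain ⟨E⟩ : Nonempty (Sylow p H) := inferInstance
  refine ⟨E, φ, hinj, hmem, hne, ?_⟩
  -- `E` acts freely on the other Sylow subgroups
  have hfix : ∀ (e : Sylow p H) (x : H), x ∈ (E : Subgroup H) → x ≠ 1 → x • e = e → e = E := by
    intro e x hxE hx1 hxe
    have hxn : x ∈ Subgroup.normalizer ((e : Subgroup H) : Set H) :=
      Sylow.smul_eq_iff_mem_normalizer.mp hxe
    obtain ⟨⟨y, hy⟩, hy0⟩ := Subgroup.ne_bot_iff_exists_ne_one.mp (hne e)
    have hy1 : y ≠ 1 := fun h => hy0 (Subtype.ext h)
    have hy' : x * y * x⁻¹ ∈ (e : Subgroup H) := (Subgroup.mem_normalizer_iff.mp hxn y).mp hy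
    have hPQ : (x : G) • φ e = φ e := by
      refine hTI _ _ ((x : G) * y * (x : G)⁻¹) ?_ ?_ ?_
      · intro h
        exact hy1 (Subtype.ext (by simpa using h))
      · rw [Sylow.smul_def, Sylow.pointwise_smul_def]
        exact Subgroup.mem_map.mpr ⟨y, hmem e y hy, rfl⟩
      · simpa using hmem e _ hy'
    have hxP : (x : G) ∈ (φ e : Subgroup G) := by
      obtain ⟨k, hk⟩ := E.isPGroup' ⟨x, hxE⟩
      have hk' : (x : G) ^ p ^ k = 1 := by
        have := congrArg (fun z : (E : Subgroup H) => ((z : H) : G)) hk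
        simpa using this
      have hle : Subgroup.zpowers (x : G) ≤ Subgroup.normalizer ((φ e : Subgroup G) : Set G) := by
        rw [Subgroup.zpowers_le]
        exact Sylow.smul_eq_iff_mem_normalizer.mp hPQ
      have hp : IsPGroup p (Subgroup.zpowers (x : G)) := by
        rintro ⟨z, hz⟩
        obtain ⟨m, rfl⟩ := hz
        refine ⟨k, Subtype.ext ?_⟩
        show ((x : G) ^ m) ^ p ^ k = 1
        rw [← zpow_natCast, ← zpow_mul, mul_comm, zpow_mul, zpow_natCast, hk', one_zpow]
      have hsup := (φ e).is_maximal'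
        (IsPGroup.to_sup_of_normal_right' hp (φ e).isPGroup' hle) le_sup_right
      exact hsup ▸ (le_sup_left (a := Subgroup.zpowers (x : G)) (Subgroup.mem_zpowers _))
    exact hinj (hTI _ _ (x : G) (fun h => hx1 (Subtype.ext h)) hxP (hmem E x hxE))
  let X := {e : Sylow p H // e ≠ E}
  have hEfix : ∀ x : (E : Subgroup H), (x : H) • E = E := fun x =>
    Sylow.smul_eq_iff_mem_normalizer.mpr (Subgroup.le_normalizer x.2)
  letI : MulAction (E : Subgroup H) X :=
    { smul := fun x e => ⟨(x : H) • e.1, fun h => e.2 (MulAction.injective (x : H) (h.trans (hEfix x).symm))⟩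
      one_smul := fun e => Subtype.ext (one_smul H e.1)
      mul_smul := fun x y e => Subtype.ext (mul_smul (x : H) (y : H) e.1) }
  have hfree : ∀ e : X, MulAction.stabilizer (E : Subgroup H) e = ⊥ := by
    intro e
    rw [eq_bot_iff]
    intro x hx
    rw [Subgroup.mem_bot]
    by_contra h1
    exact e.2 (hfix e.1 x x.2 (fun h => h1 (Subtype.ext h))
      (congrArg Subtype.val (MulAction.mem_stabilizer_iff.mp hx)))
  have hX : Nat.card (E : Subgroup H) ∣ Nat.card X := by
    rw [Nat.card_congr (MulAction.selfEquivOrbitsQuotientProd hfree), Nat.card_prod]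
    exact dvd_mul_left _ _
  have hn : Nat.card (Sylow p H) = Nat.card X + 1 := by
    rw [← Finite.card_option (α := X)]
    exact Nat.card_congr (Equiv.optionSubtypeNe E).symm
  obtain ⟨c, hc⟩ := hX
  rw [hn, hc, Nat.mul_add_mod]

theorem card_normalizer_seven (hG : Nat.card G = 126000)
    (h7 : ∀ g : G, orderOf g = 7 → ∀ h : G, Commute g h → ¬ (orderOf h = 2 ∨ orderOf h = 3 ∨ orderOf h = 5))
    (P : Sylow 7 G) : Nat.card (Subgroup.normalizer ((P : Subgroup G) : Set G)) = 21 := by
  haveI : Fact (Nat.Prime 7) := ⟨by norm_num⟩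
  have hP : Nat.card (P : Subgroup G) = 7 := by
    rw [Sylow.card_eq_multiplicity, hG, show (126000 : ℕ) = 7 ^ 1 * 18000 by norm_num,
      Nat.factorization_mul (by norm_num) (by norm_num), Nat.Prime.factorization_pow (by norm_num)]
    simp [Nat.factorization_eq_zero_of_not_dvd]
  obtain ⟨g, hg⟩ := exists_prime_orderOf_dvd_card' (G := (P : Subgroup G)) 7 (by rw [hP])
  have hg' : orderOf (g : G) = 7 := by simpa using hg
  set N := Subgroup.normalizer ((P : Subgroup G) : Set G)
  set C := Subgroup.centralizer ((P : Subgroup G) : Set G)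
  have hCdvd : Nat.card C ∣ 7 := by
    have hCG : Nat.card C ∣ 126000 := hG ▸ Subgroup.card_subgroup_dvd_card C
    have hno : ∀ q ∈ ({2, 3, 5} : Finset ℕ), ¬ q ∣ Nat.card C := by
      intro q hq hd
      have hqp : q.Prime := by
        simp only [Finset.mem_insert, Finset.mem_singleton] at hq
        rcases hq with rfl | rfl | rfl <;> norm_num
      haveI := Fact.mk hqp
      obtain ⟨h, hh⟩ := exists_prime_orderOf_dvd_card' (G := C) q hd
      refine h7 g hg' h ((Subgroup.mem_centralizer_iff.mp h.2) g g.2) ?_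
      simp only [Finset.mem_insert, Finset.mem_singleton] at hq
      rw [Subgroup.orderOf_coe, hh]
      exact hq
    have hcop : (Nat.card C).Coprime 18000 := by
      rw [show (18000 : ℕ) = 2 ^ 4 * (3 ^ 2 * 5 ^ 3) by norm_num]
      have h := fun q (hq : q ∈ ({2, 3, 5} : Finset ℕ)) (hp : q.Prime) =>
        ((hp.coprime_iff_not_dvd).mpr (hno q hq)).symm
      exact ((h 2 (by simp) (by norm_num)).pow_right 4).mul_right
        (((h 3 (by simp) (by norm_num)).pow_right 2).mul_right
          ((h 5 (by simp) (by norm_num)).pow_right 3))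
    rw [show (126000 : ℕ) = 18000 * 7 by norm_num] at hCG
    exact hcop.dvd_of_dvd_mul_left hCG
  have hN : Nat.card N ∣ 42 := by
    have hker := Subgroup.normalizerMonoidHom_ker (P : Subgroup G)
    have h1 := Subgroup.card_mul_index (Subgroup.normalizerMonoidHom (P : Subgroup G)).ker
    rw [Subgroup.index_ker] at h1
    have hk : Nat.card (Subgroup.normalizerMonoidHom (P : Subgroup G)).ker ∣ 7 := by
      rw [hker, Nat.card_congr (Subgroup.subgroupOfEquivOfLe (Subgroup.centralizer_le_normalizer _)).toEquiv]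
      exact hCdvd
    have hr : Nat.card (Subgroup.normalizerMonoidHom (P : Subgroup G)).range ∣ 6 := by
      refine (Subgroup.card_subgroup_dvd_card _).trans ?_
      haveI : IsCyclic (P : Subgroup G) := isCyclic_of_prime_card hP
      rw [IsCyclic.card_mulAut, hP]
      rfl
    rw [← h1]
    exact (Nat.mul_dvd_mul hk hr).trans (by norm_num)
  have h7N : 7 ∣ Nat.card N := hP ▸ Subgroup.card_dvd_of_le Subgroup.le_normalizer
  have hcnt : Nat.card (Sylow 7 G) * Nat.card N = 126000 := by
    rw [P.card_eq_index_normalizer, mul_comm]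
    exact (Subgroup.card_mul_index N).trans hG
  have hmod : Nat.card (Sylow 7 G) % 7 = 1 := by
    have := card_sylow_modEq_one 7 G
    rwa [Nat.ModEq] at this
  obtain ⟨a, ha⟩ := h7N
  have ha6 : a ∣ 6 := by
    rw [ha, show (42 : ℕ) = 7 * 6 by norm_num] at hN
    exact (Nat.mul_dvd_mul_iff_left (by norm_num)).mp hN
  have : a ≤ 6 := Nat.le_of_dvd (by norm_num) ha6
  rw [ha] at hcnt ⊢
  interval_cases a <;> omega

theorem seven_count (H : Subgroup G) (hd : 7 ∣ Nat.card H)
    (hN : ∀ P : Sylow 7 G, Nat.card (Subgroup.normalizer ((P : Subgroup G) : Set G)) = 21)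
    (h49 : ¬ 49 ∣ Nat.card G) :
    ∃ E : Sylow 7 H, Nat.card (Sylow 7 H) % 7 = 1 ∧
      (Nat.card (Sylow 7 H) * 7 = Nat.card H ∧
          Subgroup.normalizer ((E : Subgroup H) : Set H) = (E : Subgroup H) ∨
        Nat.card (Sylow 7 H) * 21 = Nat.card H) := by
  haveI : Fact (Nat.Prime 7) := ⟨by norm_num⟩
  obtain ⟨E⟩ : Nonempty (Sylow 7 H) := inferInstance
  refine ⟨E, ?_, ?_⟩
  · have := card_sylow_modEq_one 7 H
    rwa [Nat.ModEq] at this
  set M := Subgroup.normalizer ((E : Subgroup H) : Set H)
  have hcnt : Nat.card (Sylow 7 H) * Nat.card M = Nat.card H := by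
    rw [E.card_eq_index_normalizer, mul_comm]
    exact Subgroup.card_mul_index M
  have hE7 : 7 ∣ Nat.card (E : Subgroup H) := E.dvd_card_of_dvd_card hd
  obtain ⟨k, hk⟩ := (IsPGroup.iff_card (p := 7)).mp E.isPGroup'
  have hE : Nat.card (E : Subgroup H) = 7 := by
    rcases k with _ | _ | k
    · rw [hk, pow_zero] at hE7; norm_num at hE7
    · rw [hk, pow_one]
    · refine absurd (dvd_trans ?_ ((Subgroup.card_subgroup_dvd_card (E : Subgroup H)).trans
        (Subgroup.card_subgroup_dvd_card H))) h49
      exact hk ▸ Dvd.intro (7 ^ k) (by ring)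
  obtain ⟨P, hP⟩ := (E.isPGroup'.map H.subtype).exists_le_sylow
  have hPE : (E : Subgroup H).map H.subtype = P := by
    refine Subgroup.eq_of_le_of_card_ge hP ?_
    rw [Subgroup.card_map_of_injective H.subtype_injective, hE]
    obtain ⟨j, hj⟩ := (IsPGroup.iff_card (p := 7)).mp P.isPGroup'
    rw [hj]
    rcases j with _ | _ | j
    · norm_num
    · norm_num
    · refine absurd (dvd_trans ?_ (Subgroup.card_subgroup_dvd_card (P : Subgroup G))) h49
      exact hj ▸ Dvd.intro (7 ^ j) (by ring)
  have hM : Nat.card M ∣ 21 := by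
    rw [← hN P, ← Subgroup.card_map_of_injective (K := M) H.subtype_injective, ← hPE]
    exact Subgroup.card_dvd_of_le (Subgroup.le_normalizer_map H.subtype)
  have hM7 : 7 ∣ Nat.card M := hE ▸ Subgroup.card_dvd_of_le Subgroup.le_normalizer
  obtain ⟨a, ha⟩ := hM7
  have ha3 : a ∣ 3 := by
    rw [ha, show (21 : ℕ) = 7 * 3 by norm_num] at hM
    exact (Nat.mul_dvd_mul_iff_left (by norm_num)).mp hM
  rcases (Nat.dvd_prime (by norm_num)).mp ha3 with rfl | rfl
  · left
    rw [mul_one] at ha
    refine ⟨by rw [← hcnt, ha], ?_⟩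
    exact (Subgroup.eq_of_le_of_card_ge Subgroup.le_normalizer (by rw [ha, hE])).symm
  · exact Or.inr (by rw [← hcnt, ha])

/-- The main estimate. -/
theorem fifty_le_index (hG : Nat.card G = 126000) (hs : IsSimpleGroup G)
    (hTI : ∀ P Q : Sylow 5 G, ∀ g : G, g ≠ 1 → g ∈ (P : Subgroup G) → g ∈ (Q : Subgroup G) → P = Q)
    (hn5 : Nat.card (Sylow 5 G) = 126)
    (h7 : ∀ g : G, orderOf g = 7 → ∀ h : G, Commute g h → ¬ (orderOf h = 2 ∨ orderOf h = 3 ∨ orderOf h = 5))
    (H : Subgroup G) (hH : H ≠ ⊤) : 50 ≤ H.index := by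
  classical
  haveI : Fact (Nat.Prime 5) := ⟨by norm_num⟩
  haveI : Fact (Nat.Prime 7) := ⟨by norm_num⟩
  by_contra hlt
  push Not at hlt
  have hmul : Nat.card H * H.index = 126000 := by rw [Subgroup.card_mul_index, hG]
  have hk0 : H.index ≠ 0 := Subgroup.index_ne_zero_of_finite
  have h5 : 5 ∣ Nat.card H := by
    by_contra hd
    have : 5 ^ 3 ∣ H.index := by
      refine (((Nat.Prime.coprime_iff_not_dvd (by norm_num)).mpr hd).pow_left 3).dvd_of_dvd_mul_left ?_
      rw [hmul]; norm_num
    have := Nat.le_of_dvd (Nat.pos_of_ne_zero hk0) this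
    omega
  obtain ⟨E, φ, hinj, hmem, hne, hmod⟩ := card_sylow_modEq hTI H h5
  have hn : Nat.card (Sylow 5 H) ≤ 126 := hn5 ▸ Nat.card_le_card_of_injective φ hinj
  have hnd : Nat.card (Sylow 5 H) ∣ Nat.card H := E.card_dvd_index.trans (Subgroup.index_dvd_card _)
  obtain ⟨v, hv⟩ := (IsPGroup.iff_card (p := 5)).mp E.isPGroup'
  have hE5 : 5 ∣ Nat.card (E : Subgroup H) := E.dvd_card_of_dvd_card h5
  have hEH : 5 ^ v ∣ Nat.card H := hv ▸ Subgroup.card_subgroup_dvd_card _
  have hv3 : v ≤ 3 := by
    by_contra h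
    have : 5 ^ 4 ∣ 126000 :=
      (pow_dvd_pow 5 (by omega)).trans (hEH.trans (hmul ▸ dvd_mul_right _ _))
    norm_num at this
  have hv1 : 1 ≤ v := by
    rcases Nat.eq_zero_or_pos v with rfl | h
    · rw [hv, pow_zero] at hE5; norm_num at hE5
    · exact h
  have hmax : ∀ w, 5 ^ w ∣ Nat.card H → w ≤ v := fun w hw => by
    have := E.pow_dvd_card_of_pow_dvd_card hw
    rw [hv] at this
    exact (Nat.pow_dvd_pow_iff_le_right (by norm_num)).mp this
  -- a normalised Sylow subgroup is impossible
  have hn1 : Nat.card (Sylow 5 H) ≠ 1 := by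
    intro h1
    have hsub : ∀ x : H, (x : G) ∈ Subgroup.normalizer ((φ E : Subgroup G) : Set G) := by
      intro x
      refine Sylow.smul_eq_iff_mem_normalizer.mp ?_
      have hx : x • E = E := (Nat.card_eq_one_iff_unique.mp h1).1.elim _ _
      obtain ⟨⟨y, hy⟩, hy1⟩ := Subgroup.ne_bot_iff_exists_ne_one.mp (hne E)
      have hy1' : y ≠ 1 := fun h => hy1 (Subtype.ext h)
      have hy' : x * y * x⁻¹ ∈ (E : Subgroup H) :=
        (Subgroup.mem_normalizer_iff.mp (Sylow.smul_eq_iff_mem_normalizer.mp hx) y).mp hy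
      refine hTI _ _ ((x : G) * y * (x : G)⁻¹) (fun h => hy1' (Subtype.ext (by simpa using h))) ?_ ?_
      · rw [Sylow.smul_def, Sylow.pointwise_smul_def]
        exact Subgroup.mem_map.mpr ⟨y, hmem E y hy, rfl⟩
      · simpa using hmem E _ hy'
    have h := Subgroup.index_dvd_of_le (H := H) (K := Subgroup.normalizer ((φ E : Subgroup G) : Set G))
      (fun g hg => hsub ⟨g, hg⟩)
    have e : (Subgroup.normalizer ((φ E : Subgroup G) : Set G)).index = 126 :=
      (φ E).card_eq_index_normalizer.symm.trans hn5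
    rw [e] at h
    have := Nat.le_of_dvd (Nat.pos_of_ne_zero hk0) h
    omega
  have h49 : ¬ 49 ∣ Nat.card G := by rw [hG]; norm_num
  have hNn := card_normalizer_seven hG h7
  have hcase : Nat.card (Sylow 5 H) = 126 ∨ v = 1 := by
    rcases Nat.lt_or_ge v 2 with h | h
    · right; omega
    left
    have h25 : 25 ∣ Nat.card (E : Subgroup H) := hv ▸ (show (25 : ℕ) = 5 ^ 2 by norm_num) ▸ pow_dvd_pow 5 h
    have hm : Nat.card (Sylow 5 H) % 25 = 1 := by
      have := congrArg (· % 25) hmod
      simp only [Nat.mod_mod_of_dvd _ h25] at this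
      exact this
    have hdG : Nat.card (Sylow 5 H) ∣ 126000 := hnd.trans (hmul ▸ dvd_mul_right _ _)
    generalize Nat.card (Sylow 5 H) = n at *
    have hcases : n = 1 ∨ n = 26 ∨ n = 51 ∨ n = 76 ∨ n = 101 ∨ n = 126 := by omega
    rcases hcases with rfl | rfl | rfl | rfl | rfl | rfl <;> first | exact absurd rfl hn1 | omega
  have hbounds : 2520 < Nat.card H := by
    by_contra h
    have := Nat.mul_lt_mul_of_le_of_lt (Nat.not_lt.mp h) hlt (by norm_num)
    omega
  have h7le : 7 ∣ Nat.card H → Nat.card (Sylow 5 H) = 126 → v = 2 → False := by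
    intro hd hn126 hv2
    have h126 : 126 ∣ Nat.card H := hn126 ▸ hnd
    have h3150 : 3150 ∣ Nat.card H := by
      have := Nat.Coprime.mul_dvd_of_dvd_of_dvd (by norm_num : Nat.Coprime 126 25) h126
        (by rw [hv2] at hEH; simpa using hEH)
      simpa using this
    have hnot : ¬ 125 ∣ Nat.card H := fun h => by
      have := hmax 3 (by simpa using h); omega
    obtain ⟨F, hF1, hF⟩ := seven_count H hd hNn h49
    obtain ⟨c, hc⟩ := h3150
    have hc40 : c * H.index = 40 := by
      rw [hc, mul_assoc] at hmul; omega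
    have hcle : c ≤ 40 := Nat.le_of_dvd (by norm_num) (Dvd.intro _ hc40)
    rcases hF with ⟨h7', hself⟩ | h21
    · -- a normal complement to the Sylow seven-subgroup
      have hFle : Subgroup.normalizer ((F : Subgroup H) : Set H) ≤
          Subgroup.centralizer ((F : Subgroup H) : Set H) := by
        rw [hself]
        have : IsMulCommutative (F : Subgroup H) := by
          obtain ⟨j, hj⟩ := (IsPGroup.iff_card (p := 7)).mp F.isPGroup'
          rcases j with _ | _ | j
          · have : Subsingleton (F : Subgroup H) := (Nat.card_eq_one_iff_unique.mp (by simpa using hj)).1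
            exact ⟨⟨fun a b => Subsingleton.elim _ _⟩⟩
          · have : IsCyclic (F : Subgroup H) := isCyclic_of_prime_card (by simpa using hj)
            infer_instance
          · exact absurd (dvd_trans (hj ▸ Dvd.intro (7 ^ j) (by ring))
              ((Subgroup.card_subgroup_dvd_card (F : Subgroup H)).trans
                (Subgroup.card_subgroup_dvd_card H))) h49
        exact Subgroup.le_centralizer_iff_isMulCommutative.mpr this
      have hcompl := MonoidHom.ker_transferSylow_isComplement' F hFle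
      set K := (MonoidHom.transferSylow F hFle).ker
      have hKc : Nat.card K * Nat.card (F : Subgroup H) = Nat.card H := hcompl.card_mul
      have hnd7 : ¬ 7 ∣ Nat.card K := MonoidHom.not_dvd_card_ker_transferSylow F hFle
      have hle : ∀ e : Sylow 5 H, (e : Subgroup H) ≤ K := by
        intro e x hx
        obtain ⟨j, hj⟩ := e.isPGroup' ⟨x, hx⟩
        obtain ⟨i, hi⟩ := (IsPGroup.iff_card (p := 7)).mp F.isPGroup'
        have hx1 : x ^ 5 ^ j = 1 := by simpa using congrArg Subtype.val hj
        rw [MonoidHom.mem_ker]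
        have e1 : (MonoidHom.transferSylow F hFle x) ^ 5 ^ j = 1 := by rw [← map_pow, hx1, map_one]
        have e2 : (MonoidHom.transferSylow F hFle x) ^ 7 ^ i = 1 := hi ▸ pow_card_eq_one'
        have := pow_gcd_eq_one.mpr ⟨e1, e2⟩
        rwa [Nat.Coprime.pow j i (by norm_num : Nat.Coprime 5 7), pow_one] at this
      have hKn : Nat.card (Sylow 5 H) = Nat.card (Sylow 5 K) := by
        refine Nat.card_congr (Equiv.ofBijective (fun e : Sylow 5 H => e.subtype (hle e)) ⟨?_, ?_⟩)
        · intro a b h
          have h' : (a : Subgroup H).subgroupOf K = (b : Subgroup H).subgroupOf K :=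
            congrArg Sylow.toSubgroup h
          exact Sylow.ext (by
            rwa [Subgroup.subgroupOf_inj, inf_of_le_left (hle a), inf_of_le_left (hle b)] at h')
        · intro e
          obtain ⟨P, hP⟩ := e.exists_comap_subtype_eq
          exact ⟨P, Sylow.ext hP⟩
      obtain ⟨E'⟩ : Nonempty (Sylow 5 K) := inferInstance
      have : 7 ∣ Nat.card K := by
        refine dvd_trans ?_ (E'.card_dvd_index.trans (Subgroup.index_dvd_card _))
        rw [← hKn, hn126]; norm_num
      exact hnd7 this
    · have hc5 : ¬ 5 ∣ c := fun h5c => hnot (by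
        rw [hc]
        obtain ⟨c', rfl⟩ := h5c
        exact ⟨126 * c', by ring⟩)
      have hc8 : c ∣ 8 := ((Nat.Prime.coprime_iff_not_dvd (by norm_num : Nat.Prime 5)).mpr
        hc5).symm.dvd_of_dvd_mul_left (show c ∣ 5 * 8 from Dvd.intro _ hc40)
      have hcmem : c ∈ Nat.divisors 8 := Nat.mem_divisors.mpr ⟨hc8, by norm_num⟩
      rw [show Nat.divisors 8 = {1, 2, 4, 8} by decide] at hcmem
      simp only [Finset.mem_insert, Finset.mem_singleton] at hcmem
      rcases hcmem with rfl | rfl | rfl | rfl <;> omega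
  rcases hcase with hn126 | hv1'
  · have h126 : 126 ∣ Nat.card H := hn126 ▸ hnd
    have hd7 : 7 ∣ Nat.card H := dvd_trans (by norm_num) h126
    rcases (show v = 1 ∨ v = 2 ∨ v = 3 by omega) with rfl | rfl | rfl
    · have h25 : 25 ∣ H.index := by
        have hnd2 : ¬ 25 ∣ Nat.card H := fun h => by have := hmax 2 (by simpa using h); omega
        obtain ⟨a, ha⟩ := h5
        have h5a : ¬ 5 ∣ a := fun h => hnd2 (by
          rw [ha, show (25 : ℕ) = 5 * 5 by norm_num]; exact Nat.mul_dvd_mul_left 5 h)
        rw [ha, mul_assoc] at hmul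
        have : a * H.index = 25200 := by omega
        exact (((Nat.Prime.coprime_iff_not_dvd (by norm_num)).mpr h5a).pow_left 2).dvd_of_dvd_mul_left
          (this ▸ by norm_num)
      obtain ⟨b, hb⟩ := h25
      have : b = 1 := by omega
      rw [hb, this] at hmul
      norm_num at hmul
      have : Nat.card H = 5040 := by omega
      rw [this] at h126
      obtain ⟨F, hF1, hF⟩ := seven_count H hd7 hNn h49
      rcases hF with ⟨h, -⟩ | h <;> omega
    · exact h7le hd7 hn126 rfl
    · -- the Sylow subgroups of the group all lie in the subgroup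
      have hφ : Function.Surjective φ :=
        ((Nat.bijective_iff_injective_and_card φ).mpr ⟨hinj, by rw [hn126, hn5]⟩).surjective
      have hall : ∀ P : Sylow 5 G, (P : Subgroup G) ≤ H := by
        intro P
        obtain ⟨e, rfl⟩ := hφ P
        have heq : (e : Subgroup H).map H.subtype = (φ e : Subgroup G) := by
          refine Subgroup.eq_of_le_of_card_ge (fun g hg => by
            obtain ⟨x, hx, rfl⟩ := hg; exact hmem e x hx) ?_
          rw [Subgroup.card_map_of_injective H.subtype_injective, e.card_eq_multiplicity,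
            (φ e).card_eq_multiplicity]
          refine Nat.pow_le_pow_right (by norm_num) ?_
          have h1 : (Nat.card G).factorization 5 = 3 := by
            rw [hG, show (126000 : ℕ) = 5 ^ 3 * 1008 by norm_num,
              Nat.factorization_mul (by norm_num) (by norm_num), Nat.Prime.factorization_pow (by norm_num)]
            simp [Nat.factorization_eq_zero_of_not_dvd]
          rw [h1]
          exact (Nat.Prime.pow_dvd_iff_le_factorization (by norm_num) Nat.card_pos.ne').mp hEH
        rw [← heq]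
        exact Subgroup.map_subtype_le _
      obtain ⟨P⟩ : Nonempty (Sylow 5 G) := inferInstance
      have hle : Subgroup.normalClosure ((P : Subgroup G) : Set G) ≤ H := by
        refine Subgroup.closure_le _ |>.mpr ?_
        intro g hg
        obtain ⟨a, ha, hc⟩ := Group.mem_conjugatesOfSet_iff.mp hg
        obtain ⟨c, rfl⟩ := isConj_iff.mp hc
        exact hall (c • P) (by
          rw [Sylow.smul_def, Sylow.pointwise_smul_def]
          exact Subgroup.mem_map.mpr ⟨a, ha, rfl⟩)
      rcases hs.eq_bot_or_eq_top_of_normal _ Subgroup.normalClosure_normal with h | h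
      · refine P.ne_bot_of_dvd_card (by rw [hG]; norm_num) (eq_bot_iff.mpr ?_)
        exact fun g hg => h ▸ Subgroup.subset_normalClosure hg
      · exact hH (top_le_iff.mp (h ▸ hle))
  · subst hv1'
    have hnd2 : ¬ 25 ∣ Nat.card H := fun h => by have := hmax 2 (by simpa using h); omega
    obtain ⟨a, ha⟩ := h5
    have h5a : ¬ 5 ∣ a := fun h => hnd2 (by
      rw [ha, show (25 : ℕ) = 5 * 5 by norm_num]; exact Nat.mul_dvd_mul_left 5 h)
    rw [ha, mul_assoc] at hmul
    have h' : a * H.index = 25200 := by omega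
    obtain ⟨b, hb⟩ : 25 ∣ H.index :=
      (((Nat.Prime.coprime_iff_not_dvd (by norm_num)).mpr h5a).pow_left 2).dvd_of_dvd_mul_left
        (h' ▸ by norm_num)
    have : b = 1 := by omega
    rw [hb, this] at h'
    have h5040 : Nat.card H = 5040 := by omega
    obtain ⟨F, hF1, hF⟩ := seven_count H (by rw [h5040]; norm_num) hNn h49
    rcases hF with ⟨h, -⟩ | h <;> omega

end CfsgLib.U35
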