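import Cfsg.Agent.RankOneTorus.SUThree
import Cfsg.Agent.Unitary.Simple

/-!
Sylow `5`-subgroups of `SU(3, 5)` and of `PSU(3, 5)` on the isotropic points.
-/

set_option autoImplicit false
set_option linter.style.haveILetI false
set_option linter.unusedSectionVars false

namespace CfsgLib.U35

open Matrix CfsgLib.Unitary CfsgLib.AutPSU CfsgLib.Forms CfsgLib.RankOneTorus

variable {F : Type*} [Field F] [Finite F] (hF : Nat.card F = 5 ^ 2)

local notation "SU3" => Cfsg.SU 3 F 5

include hF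

theorem orbit_radical {e f : Fin 3 → F} (H : Hyp 5 e f) {x : Fin 3 → F}
    (hx : Cfsg.hermForm 3 F 5 x x = 0) (hxe : Cfsg.hermForm 3 F 5 x e = 1) :
    ∃ u ∈ radical hF e H.ee, suMat u *ᵥ f = x := by
  have hfe := H.fe hF
  set b := x - Cfsg.hermForm 3 F 5 x f • e - Cfsg.hermForm 3 F 5 x e • f with hb
  have hbW : InW 5 e f b := inW_proj hF H x
  have hxd : x = f + b + Cfsg.hermForm 3 F 5 x f • e := by rw [hb, hxe, one_smul]; abel
  have hs : Cfsg.hermForm 3 F 5 x f + Cfsg.hermForm 3 F 5 x f ^ 5 + Cfsg.hermForm 3 F 5 b b = 0 := by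
    have h1 := hx
    set s := Cfsg.hermForm 3 F 5 x f
    rw [hxd] at h1
    simp only [herm_add_left, herm_smul_left, herm_add_right hF, herm_smul_right hF, H.ff, H.ee, H.ef, hfe,
      hbW.1, hbW.2, hf_swap_zero hF hbW.1, hf_swap_zero hF hbW.2] at h1
    linear_combination h1
  refine ⟨eich hF e b (Cfsg.hermForm 3 F 5 x f) H.ee hbW.1 hs, ⟨b, _, hbW.1, rfl⟩, ?_⟩
  rw [show suMat (eich hF e b (Cfsg.hermForm 3 F 5 x f) H.ee hbW.1 hs) =
    eichMat 5 e b (Cfsg.hermForm 3 F 5 x f) from rfl, eichMat_apply_f hF H hbW]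
  exact hxd.symm

theorem eq_smul_of_orth {e f : Fin 3 → F} (H : Hyp 5 e f) {x : Fin 3 → F}
    (hxx : Cfsg.hermForm 3 F 5 x x = 0) (hxe : Cfsg.hermForm 3 F 5 x e = 0) :
    ∃ c : F, x = c • e := by
  obtain ⟨d, hd, b, Fr⟩ := exists_frame hF H
  obtain rfl : d = 1 := by omega
  have hxd : x = Cfsg.hermForm 3 F 5 x f • e + Cfsg.hermForm 3 F 5 x (b 0) • b 0 := by
    have := Fr.expand x
    rwa [Fin.sum_univ_one, hxe, zero_smul, add_zero] at this
  have hxb : Cfsg.hermForm 3 F 5 x (b 0) = 0 := by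
    set s := Cfsg.hermForm 3 F 5 x f
    set t := Cfsg.hermForm 3 F 5 x (b 0)
    rw [hxd] at hxx
    simp only [herm_add_left, herm_smul_left, herm_add_right hF, herm_smul_right hF, H.ee, (Fr.inW 0).1,
      hf_swap_zero hF (Fr.inW 0).1, Fr.on, if_pos] at hxx
    by_contra ht
    exact mul_ne_zero ht (pow_ne_zero 5 ht) (by linear_combination hxx)
  exact ⟨_, hxd.trans (by rw [hxb, zero_smul, add_zero])⟩

theorem card_su : Nat.card SU3 = 378000 := by
  have h := card_SU_mul hF (n := 3) (by norm_num)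
  rw [card_GU hF 3] at h
  norm_num [Finset.prod_range_succ, Nat.even_iff] at h
  omega

theorem card_psu : Nat.card (Cfsg.PSU 3 F 5) = 126000 := by
  have h := card_PSU_mul hF (n := 3) (by norm_num)
  rw [card_GU hF 3] at h
  norm_num [Finset.prod_range_succ, Nat.even_iff] at h
  omega

/-- The data of a point with a transversal Sylow subgroup. -/
theorem exists_point : ∃ (R : Subgroup SU3) (P : IsoPt 3 F 5),
    Nat.card R = 125 ∧ R ≤ MulAction.stabilizer SU3 P ∧
    MulAction.stabilizer SU3 P ≤ Subgroup.normalizer (R : Set SU3) ∧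
    (∀ u ∈ R, u ≠ 1 → ∀ Q : IsoPt 3 F 5, u • Q = Q → Q = P) ∧
    Nat.card (IsoPt 3 F 5) = 126 := by
  classical
  obtain ⟨e, he0, hee⟩ := exists_isotropic hF (n := 3) (by norm_num)
  obtain ⟨f, H⟩ := exists_hyp hF he0 hee
  haveI : Fact (Nat.Prime 5) := ⟨by norm_num⟩
  haveI : CharP F 5 := by
    obtain ⟨p, k, hp, hchar, hq, -⟩ := exists_prime hF
    have : p = 5 := ((Nat.prime_dvd_prime_iff_eq hp (by norm_num)).mp
      (hq ▸ dvd_pow_self p (by rintro rfl; simp at hq)))
    exact this ▸ hchar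
  set R := radical hF e H.ee
  set P := pt hF e he0 hee
  have hf0 : f ≠ 0 := fun h => by
    have := H.ef
    rw [h] at this
    simp [Cfsg.hermForm] at this
  have hRfix : ∀ u ∈ R, u • P = P := fun u hu => by
    rw [smul_pt, pt_eq_iff]
    exact ⟨1, by rw [one_smul, suMat_mem_radical_fix hF H.ee hu]⟩
  have hstab : ∀ g : SU3, g • P = P → ∃ μ : F, suMat g *ᵥ e = μ • e := by
    intro g hg
    rw [smul_pt, pt_eq_iff] at hg
    obtain ⟨a, ha⟩ := hg
    exact ⟨a, ha.symm⟩
  have hfree : ∀ u ∈ R, u ≠ 1 → ∀ Q : IsoPt 3 F 5, u • Q = Q → Q = P := by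
    intro u hu hu1 Q hQ
    obtain ⟨x, hx, hx0, rfl⟩ := exists_pt hF Q
    by_cases hxe : Cfsg.hermForm 3 F 5 x e = 0
    · obtain ⟨c, hc⟩ := eq_smul_of_orth hF H hx0 hxe
      rw [pt_eq_iff]
      exact ⟨c, hc.symm⟩
    · exfalso
      rw [smul_pt, pt_eq_iff] at hQ
      obtain ⟨μ, hμ⟩ := hQ
      have hue := suMat_mem_radical_fix hF H.ee hu
      have h1 : Cfsg.hermForm 3 F 5 (μ • x) e = Cfsg.hermForm 3 F 5 x e := by
        rw [hμ]; conv_lhs => rw [← hue]
        exact su_preserves u x e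
      rw [herm_smul_left] at h1
      have hμ1 : μ = 1 := mul_right_cancel₀ hxe (by rw [h1, one_mul])
      rw [hμ1, one_smul] at hμ
      set l := Cfsg.hermForm 3 F 5 x e
      have hH : Hyp 5 e (l⁻¹ • x) := by
        refine ⟨hee, ?_, ?_⟩
        · rw [herm_smul_left, herm_smul_right hF, hx0, mul_zero, mul_zero]
        · have hswap : Cfsg.hermForm 3 F 5 (l⁻¹ • x) e = 1 := by
            rw [herm_smul_left, inv_mul_cancel₀ hxe]
          have h2 : Cfsg.hermForm 3 F 5 e (l⁻¹ • x) = Cfsg.hermForm 3 F 5 (l⁻¹ • x) e ^ 5 := by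
            exact herm_swap hF (l⁻¹ • x) e
          rw [h2, hswap, one_pow]
      exact hu1 (eq_one_of_fix hF hH hue (by rw [Matrix.mulVec_smul, ← hμ]))
  have hnorm : MulAction.stabilizer SU3 P ≤ Subgroup.normalizer (R : Set SU3) := by
    intro g hg
    obtain ⟨μ, hμ⟩ := hstab g hg
    obtain ⟨ν, hν⟩ := hstab g⁻¹ (inv_mem hg)
    refine Subgroup.mem_normalizer_iff.2 fun u => ⟨fun hu => radical_conj hF g H.ee hμ hu, fun hu => ?_⟩
    simpa [mul_assoc] using radical_conj hF g⁻¹ H.ee hν hu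
  have hle : R ≤ MulAction.stabilizer SU3 P := fun u hu => hRfix u hu
  -- the other points
  have hbij : Function.Bijective (fun o : Option R =>
      o.elim P (fun u => (u : SU3) • pt hF f hf0 H.ff)) := by
    have hne : ∀ u : R, P ≠ (u : SU3) • pt hF f hf0 H.ff := by
      intro u h
      have h' : pt hF f hf0 H.ff = P := by
        rw [← inv_smul_smul (u : SU3) (pt hF f hf0 H.ff), ← h]
        exact hRfix _ (inv_mem u.2)
      rw [pt_eq_iff] at h'
      obtain ⟨a, ha⟩ := h'
      have := H.ef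
      rw [← ha, herm_smul_right hF, hee, mul_zero] at this
      exact zero_ne_one this
    refine ⟨?_, ?_⟩
    · rintro (_ | a) (_ | b) hab
      · rfl
      · exact absurd hab (hne b)
      · exact absurd hab.symm (hne a)
      · refine congrArg some (Subtype.ext ?_)
        by_contra hne'
        have h1 : ((b : SU3)⁻¹ * a) • pt hF f hf0 H.ff = pt hF f hf0 H.ff := by
          rw [mul_smul, show (a : SU3) • pt hF f hf0 H.ff = (b : SU3) • pt hF f hf0 H.ff from hab,
            inv_smul_smul]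
        have := hfree _ (mul_mem (inv_mem b.2) a.2) (fun h => hne' (inv_mul_eq_one.mp h).symm) _ h1
        exact hne 1 (by rw [OneMemClass.coe_one, one_smul]; exact this.symm)
    · intro Q
      obtain ⟨x, hx, hx0, rfl⟩ := exists_pt hF Q
      by_cases hxe : Cfsg.hermForm 3 F 5 x e = 0
      · obtain ⟨c, hc⟩ := eq_smul_of_orth hF H hx0 hxe
        refine ⟨none, ?_⟩
        show P = pt hF x hx hx0
        refine Eq.symm ?_
        rw [pt_eq_iff]
        exact ⟨c, hc.symm⟩
      · set l := Cfsg.hermForm 3 F 5 x e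
        obtain ⟨u, hu, hux⟩ := orbit_radical hF H (x := l⁻¹ • x)
          (by rw [herm_smul_left, herm_smul_right hF, hx0, mul_zero, mul_zero])
          (by rw [herm_smul_left, inv_mul_cancel₀ hxe])
        refine ⟨some ⟨u, hu⟩, ?_⟩
        show u • pt hF f hf0 H.ff = pt hF x hx hx0
        rw [smul_pt, pt_eq_iff]
        exact ⟨l⁻¹, hux.symm⟩
  haveI : Fintype F := Fintype.ofFinite F
  have hcardX : Nat.card (IsoPt 3 F 5) = Nat.card R + 1 := by
    rw [← Nat.card_eq_of_bijective _ hbij, Finite.card_option]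
  -- the order of the point stabiliser
  haveI := isPretransitive (n := 3) hF
  have hmul : Nat.card (MulAction.stabilizer SU3 P) * (Nat.card R + 1) = 378000 := by
    rw [← hcardX, ← card_su hF, ← MulAction.index_stabilizer_of_transitive SU3 P,
      Subgroup.card_mul_index]
  have hquot : Nat.card (MulAction.stabilizer SU3 P) ∣ Nat.card R * 24 := by
    have hne : ∀ g : MulAction.stabilizer SU3 P, (hstab g g.2).choose ≠ 0 := by
      intro g h0
      have h := (hstab g g.2).choose_spec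
      rw [h0, zero_smul] at h
      exact su_mulVec_ne_zero (g : SU3) he0 h
    have hmulE : ∀ (g g' : SU3) (a b c : F), suMat g *ᵥ e = a • e → suMat g' *ᵥ e = b • e →
        suMat (g * g') *ᵥ e = c • e → c • e = (a * b) • e := by
      intro g g' a b c h1 h2 h3
      rw [← h3, suMat_mul, ← Matrix.mulVec_mulVec, h2, Matrix.mulVec_smul, h1, smul_smul, mul_comm]
    let ψ : MulAction.stabilizer SU3 P →* Fˣ := MonoidHom.mk'
      (fun g => Units.mk0 _ (hne g)) (fun g g' => Units.ext (smul_left_injective F he0 (by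
        show (hstab _ (g * g').2).choose • e = ((hstab g g.2).choose * (hstab g' g'.2).choose) • e
        exact hmulE (g : SU3) (g' : SU3) _ _ _ (hstab g g.2).choose_spec (hstab g' g'.2).choose_spec
          (hstab _ (g * g').2).choose_spec)))
    have hker : ψ.ker ≤ R.subgroupOf (MulAction.stabilizer SU3 P) := by
      intro g hg
      have hge : suMat (g : SU3) *ᵥ e = e := by
        rw [(hstab g g.2).choose_spec]
        have : (hstab g g.2).choose = 1 := congrArg Units.val hg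
        rw [this, one_smul]
      have hx1 : Cfsg.hermForm 3 F 5 (suMat (g : SU3) *ᵥ f) e = 1 := by
        conv_lhs => rw [← hge]
        exact (su_preserves _ f e).trans (H.fe hF)
      obtain ⟨u, hu, hux⟩ := orbit_radical hF H ((su_preserves _ f f).trans H.ff) hx1
      have h1 : u⁻¹ * (g : SU3) = 1 := eq_one_of_fix hF H
        (by
          rw [suMat_mul, ← Matrix.mulVec_mulVec, hge]
          conv_lhs => rw [← suMat_mem_radical_fix hF H.ee hu]
          rw [su_inv_mulVec])
        (by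
          rw [suMat_mul, ← Matrix.mulVec_mulVec, ← hux, su_inv_mulVec])
      rw [inv_mul_eq_one] at h1
      exact Subgroup.mem_subgroupOf.mpr (h1 ▸ hu)
    rw [← Subgroup.card_mul_index ψ.ker, Subgroup.index_ker]
    refine Nat.mul_dvd_mul ?_ ?_
    · refine (Subgroup.card_dvd_of_le hker).trans ?_
      rw [Nat.card_congr (Subgroup.subgroupOfEquivOfLe hle).toEquiv]
    · refine (Subgroup.card_subgroup_dvd_card _).trans ?_
      rw [Nat.card_units, hF]
      norm_num
  obtain ⟨j, hj⟩ := (IsPGroup.iff_card (p := 5)).1 (radical_pGroup hF (p := 5) H.ee)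
  change Nat.card R = 5 ^ j at hj
  have hj3 : j = 3 := by
    have hle3 : j ≤ 3 := by
      by_contra hgt
      have h625 : 5 ^ 4 ∣ 378000 := (pow_dvd_pow 5 (by omega : 4 ≤ j)).trans
        (hj ▸ card_su hF ▸ Subgroup.card_subgroup_dvd_card R)
      norm_num at h625
    have h1 := Nat.mul_dvd_mul_right hquot (Nat.card R + 1)
    rw [hmul, hj] at h1
    interval_cases j <;> norm_num at h1
    rfl
  exact ⟨R, P, by rw [hj, hj3]; norm_num, hle, hnorm, hfree, by rw [hcardX, hj, hj3]; norm_num⟩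

/-- Trivial intersection and number of Sylow `5`-subgroups of `PSU(3, 5)`. -/
theorem sylow_five [Fact (Nat.Prime 5)] :
    (∀ P Q : Sylow 5 (Cfsg.PSU 3 F 5), ∀ g, g ≠ 1 → g ∈ (P : Subgroup (Cfsg.PSU 3 F 5)) →
      g ∈ (Q : Subgroup (Cfsg.PSU 3 F 5)) → P = Q) ∧
    Nat.card (Sylow 5 (Cfsg.PSU 3 F 5)) = 126 := by
  classical
  haveI : Fintype F := Fintype.ofFinite F
  haveI := isPretransitive (n := 3) hF
  obtain ⟨R, P0, hR, hRle, hnorm, hfree, hcard⟩ := exists_point hF
  have hfac : (Nat.card SU3).factorization 5 = 3 := by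
    rw [card_su hF, show (378000 : ℕ) = 5 ^ 3 * 3024 by norm_num,
      Nat.factorization_mul (by norm_num) (by norm_num), Nat.Prime.factorization_pow (by norm_num)]
    simp [Nat.factorization_eq_zero_of_not_dvd]
  let S0 : Sylow 5 SU3 := Sylow.ofCard R (by rw [hR, hfac]; norm_num)
  have hS0 : (S0 : Subgroup SU3) = R := Sylow.coe_ofCard _ _
  -- every Sylow subgroup is attached to the unique point fixed by any of its non-identity elements
  have hkey : ∀ (g : SU3) (u : SU3), u ∈ ((g • S0 : Sylow 5 SU3) : Subgroup SU3) → u ≠ 1 →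
      ∀ Q : IsoPt 3 F 5, u • Q = Q ↔ Q = g • P0 := by
    intro g u hu hu1 Q
    rw [Sylow.smul_def, Sylow.pointwise_smul_def] at hu
    obtain ⟨v, hv, rfl⟩ := Subgroup.mem_map.mp hu
    rw [hS0] at hv
    have hv1 : v ≠ 1 := fun h => hu1 (by rw [h]; simp)
    simp only [MulDistribMulAction.toMonoidEnd_apply, MulDistribMulAction.toMonoidHom_apply,
      MulAut.smul_def, MulAut.conj_apply]
    constructor
    · intro h
      have h' : v • (g⁻¹ • Q) = g⁻¹ • Q := by
        conv_rhs => rw [← h]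
        simp [mul_smul]
      rw [← hfree v hv hv1 _ h', smul_inv_smul]
    · rintro rfl
      simp [mul_smul, show v • P0 = P0 from hRle hv]
  have hsame : ∀ a b : SU3, a • P0 = b • P0 → a • S0 = b • S0 := by
    intro a b h
    have hmem : b⁻¹ * a ∈ MulAction.stabilizer SU3 P0 := by
      rw [MulAction.mem_stabilizer_iff, mul_smul, h, inv_smul_smul]
    have h2 : (b⁻¹ * a) • S0 = S0 := Sylow.smul_eq_iff_mem_normalizer.mpr (by
      show b⁻¹ * a ∈ Subgroup.normalizer ((S0 : Subgroup SU3) : Set SU3)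
      rw [hS0]; exact hnorm hmem)
    conv_rhs => rw [← h2, ← mul_smul, mul_inv_cancel_left]
  have hne : ∀ S : Sylow 5 SU3, ∃ u, u ∈ (S : Subgroup SU3) ∧ u ≠ 1 := by
    intro S
    obtain ⟨⟨u, hu⟩, hu1⟩ := Subgroup.ne_bot_iff_exists_ne_one.mp
      (S.ne_bot_of_dvd_card (by rw [card_su hF]; norm_num))
    exact ⟨u, hu, fun h => hu1 (Subtype.ext h)⟩
  have hSTI : ∀ S T : Sylow 5 SU3, ∀ u, u ≠ 1 → u ∈ (S : Subgroup SU3) → u ∈ (T : Subgroup SU3) →
      S = T := by
    intro S T u hu hS hT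
    obtain ⟨a, rfl⟩ := MulAction.exists_smul_eq SU3 S0 S
    obtain ⟨b, rfl⟩ := MulAction.exists_smul_eq SU3 S0 T
    exact hsame a b (((hkey b u hT hu _).mp ((hkey a u hS hu _).mpr rfl)))
  have hnS : Nat.card (Sylow 5 SU3) = 126 := by
    let f : IsoPt 3 F 5 → Sylow 5 SU3 := fun Q => (MulAction.exists_smul_eq SU3 P0 Q).choose • S0
    have hf : ∀ g : SU3, f (g • P0) = g • S0 := fun g =>
      hsame _ _ (MulAction.exists_smul_eq SU3 P0 (g • P0)).choose_spec
    rw [← hcard]
    refine (Nat.card_eq_of_bijective f ⟨?_, ?_⟩).symm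
    · intro Q Q' h
      obtain ⟨a, rfl⟩ := MulAction.exists_smul_eq SU3 P0 Q
      obtain ⟨b, rfl⟩ := MulAction.exists_smul_eq SU3 P0 Q'
      rw [hf, hf] at h
      obtain ⟨u, hu, hu1⟩ := hne (a • S0)
      exact (hkey b u (h ▸ hu) hu1 _).mp ((hkey a u hu hu1 _).mpr rfl)
    · intro S
      obtain ⟨a, rfl⟩ := MulAction.exists_smul_eq SU3 S0 S
      exact ⟨a • P0, hf a⟩
  -- the central quotient
  let π : SU3 →* Cfsg.PSU 3 F 5 := QuotientGroup.mk' (Subgroup.center SU3)
  have hπ : Function.Surjective π := QuotientGroup.mk'_surjective _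
  have hlift : ∀ (S T : Sylow 5 SU3) (u v : SU3), u ∈ (S : Subgroup SU3) → v ∈ (T : Subgroup SU3) →
      π u = π v → u = v := by
    intro S T u v hu hv h
    have hz : u⁻¹ * v ∈ Subgroup.center SU3 := QuotientGroup.eq.mp h
    have hz3 : (u⁻¹ * v) ^ 3 = 1 := by
      have hc : Nat.card (Subgroup.center SU3) = 3 := by rw [card_center_SU hF (by norm_num)]; norm_num
      have := pow_card_eq_one' (x := (⟨_, hz⟩ : Subgroup.center SU3))
      rw [hc] at this
      simpa using congrArg Subtype.val this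
    have hcomm : Commute u (u⁻¹ * v) := (Subgroup.mem_center_iff.mp hz u)
    have h125 : ∀ (S : Sylow 5 SU3) (w : SU3), w ∈ (S : Subgroup SU3) → w ^ 125 = 1 := by
      intro S w hw
      have := pow_card_eq_one' (x := (⟨w, hw⟩ : (S : Subgroup SU3)))
      rw [S.card_eq_multiplicity, hfac] at this
      simpa using congrArg Subtype.val this
    have hv2 : (u * (u⁻¹ * v)) ^ 125 = 1 := by rw [mul_inv_cancel_left]; exact h125 T v hv
    rw [hcomm.mul_pow, h125 S u hu, one_mul] at hv2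
    have := pow_gcd_eq_one.mpr ⟨hv2, hz3⟩
    rw [show Nat.gcd 125 3 = 1 by norm_num, pow_one] at this
    exact inv_mul_eq_one.mp this
  let Φ : Sylow 5 SU3 → Sylow 5 (Cfsg.PSU 3 F 5) := fun S => S.mapSurjective hπ
  have hΦ : Function.Surjective Φ := Sylow.mapSurjective_surjective hπ 5
  have hmem : ∀ (S : Sylow 5 SU3) (g : Cfsg.PSU 3 F 5),
      g ∈ ((Φ S : Sylow 5 _) : Subgroup (Cfsg.PSU 3 F 5)) ↔ ∃ u ∈ (S : Subgroup SU3), π u = g :=
    fun S g => Subgroup.mem_map
  have hΦi : Function.Injective Φ := by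
    intro S T h
    obtain ⟨u, hu, hu1⟩ := hne S
    obtain ⟨v, hv, hvu⟩ := (hmem T _).mp (h ▸ (hmem S _).mpr ⟨u, hu, rfl⟩)
    exact hSTI S T u hu1 hu (hlift S T u v hu hv hvu.symm ▸ hv)
  refine ⟨fun P Q g hg hP hQ => ?_, by rw [← hnS, Nat.card_eq_of_bijective Φ ⟨hΦi, hΦ⟩]⟩
  obtain ⟨S, rfl⟩ := hΦ P
  obtain ⟨T, rfl⟩ := hΦ Q
  obtain ⟨u, hu, hug⟩ := (hmem S g).mp hP
  obtain ⟨v, hv, hvg⟩ := (hmem T g).mp hQ
  have huv := hlift S T u v hu hv (hug.trans hvg.symm)
  exact congrArg Φ (hSTI S T u (fun h => hg (by rw [← hug, h, map_one])) hu (huv ▸ hv))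

end CfsgLib.U35
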